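import Groth.Prelude.Def_HMNum
import Groth.Agent.Mag88.Sep

/-!
Limit points and the numerical function: uniqueness, fixedness, translation by a rational point.
-/

universe u

set_option backward.isDefEq.respectTransparency false
set_option backward.isDefEq.respectTransparency.types false

open CategoryTheory CategoryTheory.Limits MonoidalCategory CartesianMonoidalCategory MonObj AlgebraicGeometry Opposite
open Magnet Magnet.MonAct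

noncomputable section

namespace Groth.Agent.Mu99

variable {S : Scheme.{u}} {G X : Over S} [GrpObj G] {a : AlgGrp.Action G X} {T : Over S}

/-- Translation by a rational point of the group. -/
def tr (a : AlgGrp.Action G X) (h : 𝟙_ (Over S) ⟶ G) : X ⟶ X := lift (toUnit X ≫ h) (𝟙 X) ≫ a.act

theorem comp_tr (h : 𝟙_ (Over S) ⟶ G) {Z : Over S} (z : Z ⟶ X) :
    z ≫ tr a h = lift (toUnit Z ≫ h) z ≫ a.act := by
  rw [tr, comp_lift_assoc, Category.comp_id, ← Category.assoc, toUnit_unique (z ≫ toUnit X) (toUnit Z)]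

theorem act_mul (g g' : T ⟶ G) (x : T ⟶ X) :
    lift (g * g') x ≫ a.act = lift g (lift g' x ≫ a.act) ≫ a.act :=
  (MonAct.ofAction a).lift_mul_act g g' x

theorem act_one (x : T ⟶ X) : lift (1 : T ⟶ G) x ≫ a.act = x := (MonAct.ofAction a).lift_one_act x

theorem tr_tr (h h' : 𝟙_ (Over S) ⟶ G) {Z : Over S} (z : Z ⟶ X) :
    (z ≫ tr a h) ≫ tr a h' = z ≫ tr a (h' * h) := by
  rw [comp_tr, comp_tr, comp_tr, MonObj.comp_mul, act_mul]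

theorem tr_one {Z : Over S} (z : Z ⟶ X) : z ≫ tr a 1 = z := by
  rw [comp_tr, MonObj.comp_one, act_one]

theorem tr_inv_tr (h : 𝟙_ (Over S) ⟶ G) {Z : Over S} (z : Z ⟶ X) :
    (z ≫ tr a h⁻¹) ≫ tr a h = z := by
  rw [tr_tr, mul_inv_cancel, tr_one]

section OnePS

variable (l : Red.Gm S ⟶ G) [IsMonHom l]

theorem gm_smul (g : T ⟶ Red.Gm S) (x : T ⟶ X) :
    lift g x ≫ (HMNum.gmAct a l).act = lift (g ≫ l) x ≫ a.act :=
  lift_restrict_act l (MonAct.ofAction a) g x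

theorem limit_unique [IsSeparated X.hom] {x y y' : T ⟶ X}
    (h : HMNum.IsLimitPt a l x y) (h' : HMNum.IsLimitPt a l x y') : y = y' := by
  obtain ⟨φ, hx, rfl⟩ := h
  obtain ⟨φ', hx', rfl⟩ := h'
  haveI := Mag88.isSTD_subtype (S := S) HMNum.plus T
  have : φ = φ' := Mag88.evalAt_injective (AMonS.map S HMNum.plus.subtype) (HMNum.gmAct a l) T
    (hx.trans hx'.symm)
  rw [this]

theorem lift_origin (t : T ⟶ 𝟙_ (Over S)) (g : T ⟶ Red.Gm S) :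
    lift g (t ≫ HMNum.origin S) ≫ (subAct S ℤ HMNum.plus).act = t ≫ HMNum.origin S := by
  have h := (isEquivariant_iff _ _ _).1 (isEquivariant_faceMapS S HMNum.isFace_bot) T g
    (t ≫ η[AMonS S ↥(⊥ : AddSubmonoid ℤ)])
  have e : lift g (t ≫ η[AMonS S ↥(⊥ : AddSubmonoid ℤ)]) ≫ (subAct S ℤ ⊥).act =
      t ≫ η[AMonS S ↥(⊥ : AddSubmonoid ℤ)] := Mag88.aFn_ext fun m => by
    obtain ⟨m, hm⟩ := m
    rw [AddSubmonoid.mem_bot] at hm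
    subst hm
    exact (Mag88.aFn_zero _).trans (Mag88.aFn_zero _).symm
  rw [← Category.assoc, e] at h
  rw [HMNum.origin, ← Category.assoc, ← h]

theorem isFixedBy_of_isLimitPt {x y : T ⟶ X} (h : HMNum.IsLimitPt a l x y) :
    HMNum.IsFixedBy a l y := by
  obtain ⟨φ, -, rfl⟩ := h
  intro T' t g
  have e := (mem_eqvHom_iff φ.1).1 φ.2 T' g (toUnit T' ≫ HMNum.origin S) t
  rw [lift_origin] at e
  have ht : t ≫ HMNum.limitPt φ = lift (toUnit T' ≫ HMNum.origin S) t ≫ φ.1 := by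
    rw [HMNum.limitPt_eq, comp_lift_assoc, Category.comp_id, ← Category.assoc,
      toUnit_unique (t ≫ toUnit T) (toUnit T')]
  rw [ht, ← gm_smul l g]
  exact e.symm

theorem isLimitPt_self {y : T ⟶ X} (hy : HMNum.IsFixedBy a l y) : HMNum.IsLimitPt a l y y := by
  refine ⟨⟨snd _ _ ≫ y, (mem_eqvHom_iff (ρ := subAct S ℤ HMNum.plus) (a := HMNum.gmAct a l) _).2
    fun T' g b t => ?_⟩, ?_, ?_⟩
  · rw [lift_snd_assoc, lift_snd_assoc, gm_smul, hy]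
  · exact (lift_snd_assoc (toUnit T ≫ η[AMonS S ↥HMNum.plus]) (𝟙 T) y).trans (Category.id_comp y)
  · rw [HMNum.limitPt_eq]
    exact (lift_snd_assoc (toUnit T ≫ HMNum.origin S) (𝟙 T) y).trans (Category.id_comp y)

variable {l}

omit [IsMonHom l] in
theorem intertwine {h : 𝟙_ (Over S) ⟶ G} {l' : Red.Gm S ⟶ G}
    (hl : (toUnit (Red.Gm S) ≫ h) * l' = l * (toUnit (Red.Gm S) ≫ h)) (g : T ⟶ Red.Gm S) :
    (toUnit T ≫ h) * (g ≫ l') = (g ≫ l) * (toUnit T ≫ h) := by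
  have := congrArg (g ≫ ·) hl
  simp only [MonObj.comp_mul, ← Category.assoc] at this
  rwa [toUnit_unique (g ≫ toUnit (Red.Gm S)) (toUnit T)] at this

omit [IsMonHom l] in
theorem act_tr {h : 𝟙_ (Over S) ⟶ G} {l' : Red.Gm S ⟶ G}
    (hl : (toUnit (Red.Gm S) ≫ h) * l' = l * (toUnit (Red.Gm S) ≫ h)) (g : T ⟶ Red.Gm S) (x : T ⟶ X) :
    (lift (g ≫ l') x ≫ a.act) ≫ tr a h = lift (g ≫ l) (x ≫ tr a h) ≫ a.act := by
  rw [comp_tr, comp_tr, ← act_mul, ← act_mul, intertwine hl]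

omit [IsMonHom l] in
theorem isFixedBy_tr {h : 𝟙_ (Over S) ⟶ G} {l' : Red.Gm S ⟶ G}
    (hl : (toUnit (Red.Gm S) ≫ h) * l' = l * (toUnit (Red.Gm S) ≫ h)) {x : T ⟶ X}
    (hx : HMNum.IsFixedBy a l' x) : HMNum.IsFixedBy a l (x ≫ tr a h) := by
  intro T' t g
  rw [← Category.assoc, ← act_tr hl, hx]

theorem isLimitPt_tr {h : 𝟙_ (Over S) ⟶ G} {l' : Red.Gm S ⟶ G} [IsMonHom l']
    (hl : (toUnit (Red.Gm S) ≫ h) * l' = l * (toUnit (Red.Gm S) ≫ h)) {x y : T ⟶ X}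
    (hxy : HMNum.IsLimitPt a l' x y) : HMNum.IsLimitPt a l (x ≫ tr a h) (y ≫ tr a h) := by
  obtain ⟨φ, rfl, rfl⟩ := hxy
  refine ⟨⟨φ.1 ≫ tr a h, (mem_eqvHom_iff (ρ := subAct S ℤ HMNum.plus) (a := HMNum.gmAct a l) _).2
    fun T' g b t => ?_⟩,
    (Category.assoc (lift (toUnit T ≫ η[AMonS S ↥HMNum.plus]) (𝟙 T)) φ.1 (tr a h)).symm, ?_⟩
  · rw [← Category.assoc, (mem_eqvHom_iff φ.1).1 φ.2 T' g b t, gm_smul, gm_smul, act_tr hl,
      Category.assoc]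
  · rw [HMNum.limitPt_eq, HMNum.limitPt_eq, Category.assoc]

end OnePS

section Weight

variable (B : GLinSh.LinBun G a)

theorem tr_π (h : 𝟙_ (Over S) ⟶ G) {Z : Over S} (z : Z ⟶ B.V) :
    (z ≫ tr B.lift h) ≫ B.π = (z ≫ B.π) ≫ tr a h := by
  rw [comp_tr, comp_tr, Category.assoc, B.lift_π, lift_whiskerLeft_assoc]

/-- Translation multiplies fibre coordinates by a factor depending only on the base point. -/
theorem exists_factor (h : 𝟙_ (Over S) ⟶ G) {U U' : X.left.Opens}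
    {y : Γ(B.V.left, B.π.left ⁻¹ᵁ U)} {y' : Γ(B.V.left, B.π.left ⁻¹ᵁ U')}
    (hy : y ∈ B.atlas.chart U) (hy' : y' ∈ B.atlas.chart U')
    {x : T ⟶ X} (hU : x.left ⁻¹ᵁ U = ⊤) (hU' : (x ≫ tr a h).left ⁻¹ᵁ U' = ⊤)
    (T' : Over S) (t : T' ⟶ T) :
    ∃ c : Γ(T'.left, ⊤), ∀ (v : T' ⟶ B.V) (hv : v ≫ B.π = t ≫ x)
      (hv' : (v ≫ tr B.lift h) ≫ B.π = t ≫ x ≫ tr a h),
      HMNum.evalFn B.π y' (v ≫ tr B.lift h) (HMNum.top_le_preimage B.π hU' hv') =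
        c * HMNum.evalFn B.π y v (HMNum.top_le_preimage B.π hU hv) := by
  obtain ⟨c, hc⟩ := B.lift_linear U U' y y' hy hy'
  let Q : T' ⟶ G ⊗ X := lift (toUnit T' ≫ h) (t ≫ x)
  have hQ : ⊤ ≤ Q.left ⁻¹ᵁ (a.act.left ⁻¹ᵁ U' ⊓ (snd G X).left ⁻¹ᵁ U) := by
    have e1 : Q ≫ a.act = t ≫ x ≫ tr a h := by rw [← Category.assoc, comp_tr]
    have e2 : Q ≫ snd G X = t ≫ x := lift_snd _ _
    have h1 : Q.left ⁻¹ᵁ (a.act.left ⁻¹ᵁ U') = ⊤ := by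
      change (Q ≫ a.act).left ⁻¹ᵁ U' = ⊤
      rw [e1]
      change t.left ⁻¹ᵁ ((x ≫ tr a h).left ⁻¹ᵁ U') = ⊤
      rw [hU']; rfl
    have h2 : Q.left ⁻¹ᵁ ((snd G X).left ⁻¹ᵁ U) = ⊤ := by
      change (Q ≫ snd G X).left ⁻¹ᵁ U = ⊤
      rw [e2]
      change t.left ⁻¹ᵁ (x.left ⁻¹ᵁ U) = ⊤
      rw [hU]; rfl
    exact fun p _ => ⟨h1.ge trivial, h2.ge trivial⟩
  refine ⟨Q.left.appLE _ ⊤ hQ c, fun v hv hv' => ?_⟩
  let P : T' ⟶ G ⊗ B.V := lift (toUnit T' ≫ h) v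
  have eQ : P ≫ (G ◁ B.π) = Q := by simp only [P, Q, lift_whiskerLeft, hv]
  have eA : P ≫ B.lift.act = v ≫ tr B.lift h := (comp_tr h v).symm
  have eS : P ≫ snd G B.V = v := lift_snd _ _
  have hP : ⊤ ≤ P.left ⁻¹ᵁ GLinSh.liftOpen a B.π U U' := by
    change ⊤ ≤ (P ≫ (G ◁ B.π)).left ⁻¹ᵁ (a.act.left ⁻¹ᵁ U' ⊓ (snd G X).left ⁻¹ᵁ U)
    rw [eQ]; exact hQ
  have congr : ∀ {Y : Over S} {f f' : T' ⟶ Y} (_ : f = f') (W : Y.left.Opens) (e₁ : ⊤ ≤ f.left ⁻¹ᵁ W)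
      (e₂ : ⊤ ≤ f'.left ⁻¹ᵁ W) (z : Γ(Y.left, W)), f.left.appLE W ⊤ e₁ z = f'.left.appLE W ⊤ e₂ z := by
    rintro Y f f' rfl W e₁ e₂ z; rfl
  have hh := congrArg (P.left.appLE _ ⊤ hP) hc
  rw [map_mul] at hh
  simp only [← CommRingCat.comp_apply, Scheme.Hom.appLE_comp_appLE] at hh
  calc HMNum.evalFn B.π y' (v ≫ tr B.lift h) _
      = (P ≫ B.lift.act).left.appLE (B.π.left ⁻¹ᵁ U') ⊤ _ y' :=
        (congr eA _ (by rw [eA]; exact HMNum.top_le_preimage B.π hU' hv') _ y').symm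
    _ = _ := hh
    _ = _ := congrArg₂ (· * ·) (congr eQ _ _ hQ c) (congr eS _ _ _ y)

theorem hasFibreWeight_tr [Subsingleton T.left] {h : 𝟙_ (Over S) ⟶ G} {l l' : Red.Gm S ⟶ G}
    (hl : (toUnit (Red.Gm S) ≫ h) * l' = l * (toUnit (Red.Gm S) ≫ h)) {x : T ⟶ X} {w : ℤ}
    (hw : HMNum.HasFibreWeight B l' x w) : HMNum.HasFibreWeight B l (x ≫ tr a h) w := by
  obtain ⟨hfix, U, y, hy, hU, hev⟩ := hw
  refine ⟨isFixedBy_tr hl hfix, ?_⟩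
  obtain ⟨U', y', hy', hU'⟩ : ∃ (U' : X.left.Opens) (y' : Γ(B.V.left, B.π.left ⁻¹ᵁ U')),
      y' ∈ B.atlas.chart U' ∧ (x ≫ tr a h).left ⁻¹ᵁ U' = ⊤ := by
    by_cases hT : Nonempty T.left
    · obtain ⟨p⟩ := hT
      obtain ⟨U', hp, y', hy'⟩ := B.atlas.cover ((x ≫ tr a h).left p)
      exact ⟨U', y', hy', top_le_iff.1 fun q _ => by rw [Subsingleton.elim q p]; exact hp⟩
    · exact ⟨U, y, hy, top_le_iff.1 fun q _ => absurd ⟨q⟩ hT⟩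
  refine ⟨U', y', hy', hU', fun T' t g v hv hgv => ?_⟩
  have hv₀ : (v ≫ tr B.lift h⁻¹) ≫ B.π = t ≫ x := by
    rw [tr_π, hv, Category.assoc, Category.assoc, ← Category.assoc x, tr_tr, inv_mul_cancel, tr_one]
  have hgv₀ : (lift (g ≫ l') (v ≫ tr B.lift h⁻¹) ≫ B.lift.act) ≫ B.π = t ≫ x := by
    rw [Category.assoc, B.lift_π, lift_whiskerLeft_assoc, hv₀, hfix]
  obtain ⟨c, hc⟩ := exists_factor B h hy hy' hU hU' T' t
  have e1 : (v ≫ tr B.lift h⁻¹) ≫ tr B.lift h = v := tr_inv_tr h v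
  have e2 : (lift (g ≫ l') (v ≫ tr B.lift h⁻¹) ≫ B.lift.act) ≫ tr B.lift h =
      lift (g ≫ l) v ≫ B.lift.act := by rw [act_tr hl, e1]
  have congr : ∀ {f f' : T' ⟶ B.V} (_ : f = f') (e₁ : ⊤ ≤ f.left ⁻¹ᵁ (B.π.left ⁻¹ᵁ U'))
      (e₂ : ⊤ ≤ f'.left ⁻¹ᵁ (B.π.left ⁻¹ᵁ U')), HMNum.evalFn B.π y' f e₁ = HMNum.evalFn B.π y' f' e₂ := by
    rintro f f' rfl e₁ e₂; rfl
  have k1 := hc _ hgv₀ (by rw [e2, hgv])
  have k2 := hc _ hv₀ (by rw [e1, hv])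
  have k3 := hev T' t g _ hv₀ hgv₀
  refine (congr e2.symm (HMNum.top_le_preimage B.π hU' hgv)
    (HMNum.top_le_preimage B.π hU' (by rw [e2, hgv]))).trans (k1.trans ?_)
  refine Eq.trans ?_ (congrArg _ (congr e1 (HMNum.top_le_preimage B.π hU' (by rw [e1, hv]))
    (HMNum.top_le_preimage B.π hU' hv)))
  refine Eq.trans ?_ (congrArg _ k2.symm)
  rw [k3]
  exact mul_left_comm _ _ _

theorem isMu_tr [Subsingleton T.left] {h : 𝟙_ (Over S) ⟶ G} {l l' : Red.Gm S ⟶ G} [IsMonHom l] [IsMonHom l']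
    (hl : (toUnit (Red.Gm S) ≫ h) * l' = l * (toUnit (Red.Gm S) ≫ h)) {x : T ⟶ X} {m : ℤ}
    (hm : HMNum.IsMu B l' x m) : HMNum.IsMu B l (x ≫ tr a h) m := by
  obtain ⟨y, hxy, hw⟩ := hm
  exact ⟨y ≫ tr a h, isLimitPt_tr hl hxy, hasFibreWeight_tr B hl hw⟩

theorem isMu_tr_iff [Subsingleton T.left] {h : 𝟙_ (Over S) ⟶ G} {l l' : Red.Gm S ⟶ G} [IsMonHom l] [IsMonHom l']
    (hl : (toUnit (Red.Gm S) ≫ h) * l' = l * (toUnit (Red.Gm S) ≫ h)) (x : T ⟶ X) (m : ℤ) :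
    HMNum.IsMu B l (x ≫ tr a h) m ↔ HMNum.IsMu B l' x m := by
  refine ⟨fun hm => ?_, isMu_tr B hl⟩
  have hl' : (toUnit (Red.Gm S) ≫ h⁻¹) * l = l' * (toUnit (Red.Gm S) ≫ h⁻¹) := by
    rw [GrpObj.comp_inv]
    calc (toUnit (Red.Gm S) ≫ h)⁻¹ * l
        = (toUnit (Red.Gm S) ≫ h)⁻¹ * (l * (toUnit (Red.Gm S) ≫ h)) * (toUnit (Red.Gm S) ≫ h)⁻¹ := by group
      _ = _ := by rw [← hl]; group
  have := isMu_tr B hl' hm
  rwa [tr_tr, inv_mul_cancel, tr_one] at this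

end Weight

end Groth.Agent.Mu99
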