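import Groth.Agent.Mu99.Basic

/-!
The numerical function is invariant under translation by a point of the parabolic subgroup.
-/

universe u

set_option backward.isDefEq.respectTransparency false
set_option backward.isDefEq.respectTransparency.types false

open CategoryTheory CategoryTheory.Limits MonoidalCategory CartesianMonoidalCategory MonObj AlgebraicGeometry Opposite
open Magnet Magnet.MonAct

noncomputable section

namespace Groth.Agent.Mu99

variable {S : Scheme.{u}} {G X : Over S} [GrpObj G] {a : AlgGrp.Action G X} {T : Over S}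
  {l : Red.Gm S ⟶ G} [IsMonHom l] {h : 𝟙_ (Over S) ⟶ G} {f : HMNum.A1 S ⟶ G}

theorem comp_ext (hf : HMNum.incl S ≫ f = l * (toUnit _ ≫ h) * l⁻¹) (g : T ⟶ Red.Gm S) :
    g ≫ HMNum.incl S ≫ f = (g ≫ l) * (toUnit T ≫ h) * (g ≫ l)⁻¹ := by
  rw [hf, MonObj.comp_mul, MonObj.comp_mul, GrpObj.comp_inv, ← Category.assoc g,
    toUnit_unique (g ≫ toUnit (Red.Gm S)) (toUnit T)]

theorem ext_equivariant [IsSeparated G.hom] (hf : HMNum.incl S ≫ f = l * (toUnit _ ≫ h) * l⁻¹)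
    (g : T ⟶ Red.Gm S) (b : T ⟶ HMNum.A1 S) :
    (lift g b ≫ (subAct S ℤ HMNum.plus).act) ≫ f = (g ≫ l) * (b ≫ f) * (g ≫ l)⁻¹ := by
  haveI := Mag88.isSTD_subtype (S := S) HMNum.plus (Red.Gm S)
  have key : lift (snd (HMNum.A1 S) (Red.Gm S)) (fst _ _) ≫ (subAct S ℤ HMNum.plus).act ≫ f =
      (snd _ _ ≫ l) * (fst _ _ ≫ f) * (snd _ _ ≫ l)⁻¹ := by
    refine Mag88.eq_of_isSTD (AMonS.map S HMNum.plus.subtype ▷ Red.Gm S) _ _ ?_
    apply hom_ext_lift₂
    intro T' u v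
    rw [lift_whiskerRight_assoc, lift_whiskerRight_assoc, comp_lift_assoc, MonObj.comp_mul,
      MonObj.comp_mul, GrpObj.comp_inv, lift_snd, lift_fst, lift_snd_assoc, lift_fst_assoc]
    have e : lift v (u ≫ AMonS.map S HMNum.plus.subtype) ≫ (subAct S ℤ HMNum.plus).act =
        (v * u) ≫ AMonS.map S HMNum.plus.subtype := by
      rw [MonObj.mul_comp]
      exact (lift_restrict_act _ _ _ _).trans (lift_regular_act _ _)
    rw [← Category.assoc, e, Category.assoc, Category.assoc]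
    refine (comp_ext hf (v * u)).trans ?_
    rw [comp_ext hf u, MonObj.mul_comp]
    group
  have h2 := congrArg (lift b g ≫ ·) key
  simp only [comp_lift_assoc, MonObj.comp_mul, GrpObj.comp_inv, lift_snd, lift_fst, lift_snd_assoc,
    lift_fst_assoc] at h2
  rw [Category.assoc]
  exact h2

theorem isMu_tr_of_ext [IsSeparated G.hom] [Subsingleton T.left] (B : GLinSh.LinBun G a)
    (hf : HMNum.incl S ≫ f = l * (toUnit _ ≫ h) * l⁻¹) {x : T ⟶ X} {m : ℤ}
    (hm : HMNum.IsMu B l x m) : HMNum.IsMu B l (x ≫ tr a h) m := by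
  obtain ⟨y, ⟨φ, hx, hy⟩, hw⟩ := hm
  let h₀ : 𝟙_ (Over S) ⟶ G := HMNum.origin S ≫ f
  have h1 : ∀ {Z : Over S}, (toUnit Z ≫ η[AMonS S ↥HMNum.plus]) ≫ f = toUnit Z ≫ h := by
    intro Z
    have e : toUnit Z ≫ η[AMonS S ↥HMNum.plus] = (1 : Z ⟶ Red.Gm S) ≫ HMNum.incl S := by
      rw [MonObj.one_comp]; exact (Hom.one_def).symm
    rw [e, Category.assoc, comp_ext hf, MonObj.one_comp]
    group
  have h0 : (toUnit (Red.Gm S) ≫ h₀) * l = l * (toUnit (Red.Gm S) ≫ h₀) := by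
    have e := ext_equivariant hf (𝟙 (Red.Gm S)) (toUnit _ ≫ HMNum.origin S)
    rw [lift_origin, Category.id_comp, Category.assoc] at e
    exact eq_mul_inv_iff_mul_eq.1 e
  refine ⟨y ≫ tr a h₀, ⟨⟨lift (fst _ _ ≫ f) φ.1 ≫ a.act,
    (mem_eqvHom_iff (ρ := subAct S ℤ HMNum.plus) (a := HMNum.gmAct a l) _).2 fun T' g b t => ?_⟩, ?_, ?_⟩,
    hasFibreWeight_tr B h0 hw⟩
  · rw [comp_lift_assoc, comp_lift_assoc, lift_fst_assoc, lift_fst_assoc, gm_smul,
      (mem_eqvHom_iff φ.1).1 φ.2 T' g b t, gm_smul, ← act_mul, ← act_mul,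
      ext_equivariant hf, inv_mul_cancel_right]
  · rw [← hx, comp_tr]
    show lift (toUnit T ≫ η[AMonS S ↥HMNum.plus]) (𝟙 T) ≫ lift (fst _ _ ≫ f) φ.1 ≫ a.act = _
    rw [comp_lift_assoc, lift_fst_assoc, h1]
    rfl
  · rw [← hy, comp_tr, HMNum.limitPt_eq, HMNum.limitPt_eq]
    simp only [comp_lift_assoc, lift_fst_assoc]
    rw [Category.assoc]

theorem isMu_tr_iff_of_ext [IsSeparated G.hom] [Subsingleton T.left] (B : GLinSh.LinBun G a)
    (hf : HMNum.incl S ≫ f = l * (toUnit _ ≫ h) * l⁻¹) (x : T ⟶ X) (m : ℤ) :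
    HMNum.IsMu B l (x ≫ tr a h) m ↔ HMNum.IsMu B l x m := by
  refine ⟨fun hm => ?_, isMu_tr_of_ext B hf⟩
  have hf' : HMNum.incl S ≫ f⁻¹ = l * (toUnit _ ≫ h⁻¹) * l⁻¹ := by
    rw [GrpObj.comp_inv, hf, GrpObj.comp_inv]
    group
  have := isMu_tr_of_ext B hf' hm
  rwa [tr_tr, inv_mul_cancel, tr_one] at this

end Groth.Agent.Mu99
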